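import Mathlib
import Groth.Prelude.Def_Found

/-!
# Finite type refinements controlling maps to a completed local ring (ring form)

Stacks, Tag 0CAV, ring form.
-/

set_option autoImplicit false
set_option linter.style.haveILetI false
universe u

namespace Groth.Agent.H78.Refine

open IsLocalRing

/-- every element of the completion of a Noetherian local ring is congruent to an element of the
ring modulo `𝔪^N L̂` -/
theorem exists_sub_mem_map_pow {L : Type u} [CommRing L] [IsLocalRing L] [IsNoetherianRing L]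
    (N : ℕ) (y : AdicCompletion (maximalIdeal L) L) :
    ∃ c : L, y - algebraMap L (AdicCompletion (maximalIdeal L) L) c ∈
      (maximalIdeal L ^ N).map (algebraMap L (AdicCompletion (maximalIdeal L) L)) := by
  obtain ⟨c, hc⟩ := Ideal.Quotient.mk_surjective (AdicCompletion.evalₐ (maximalIdeal L) N y)
  refine ⟨c, ?_⟩
  have hfg : (maximalIdeal L).FG := (maximalIdeal L).fg_of_isNoetherianRing
  have h1 : AdicCompletion.eval (maximalIdeal L) L N
      (y - algebraMap L (AdicCompletion (maximalIdeal L) L) c) = 0 := by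
    rw [map_sub, sub_eq_zero]
    have e1 := AdicCompletion.factor_evalₐ_eq_eval (maximalIdeal L) y
      (n := N) (by rw [smul_eq_mul, Ideal.mul_top])
    have e2 := AdicCompletion.factor_evalₐ_eq_eval (maximalIdeal L)
      (algebraMap L (AdicCompletion (maximalIdeal L) L) c)
      (n := N) (by rw [smul_eq_mul, Ideal.mul_top])
    rw [← e1, ← e2, ← hc]
    congr 1
  have h2 : y - algebraMap L (AdicCompletion (maximalIdeal L) L) c ∈
      (maximalIdeal L ^ N • ⊤ : Submodule L (AdicCompletion (maximalIdeal L) L)) := by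
    rw [AdicCompletion.pow_smul_top_eq_ker_eval hfg]
    exact h1
  rw [Ideal.smul_top_eq_map] at h2
  exact h2


/-- two ring maps which agree modulo an ideal on algebra generators (and on the base) agree
modulo that ideal everywhere -/
theorem sub_mem_of_adjoin {A B R : Type u} [CommRing A] [CommRing B] [CommRing R] [Algebra A B]
    (f g : B →+* R) (K : Ideal R) (G : Set B) (hG : Algebra.adjoin A G = ⊤)
    (hbase : ∀ a : A, f (algebraMap A B a) - g (algebraMap A B a) ∈ K)
    (hgen : ∀ b ∈ G, f b - g b ∈ K) (b : B) : f b - g b ∈ K := by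
  have hb : b ∈ Algebra.adjoin A G := by rw [hG]; trivial
  induction hb using Algebra.adjoin_induction with
  | mem y hy => exact hgen y hy
  | algebraMap r => exact hbase r
  | add y z _ _ hy hz =>
    have : f (y + z) - g (y + z) = (f y - g y) + (f z - g z) := by
      rw [map_add, map_add]; ring
    rw [this]
    exact K.add_mem hy hz
  | mul y z _ _ hy hz =>
    have : f (y * z) - g (y * z) = f y * (f z - g z) + (f y - g y) * g z := by
      rw [map_mul, map_mul]; ring
    rw [this]
    exact K.add_mem (K.mul_mem_left _ hz) (K.mul_mem_right _ hy)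

/-- **Ring form of Stacks 0CAV.** -/
theorem exists_refinement_ring {A B L : Type u} [CommRing A] [IsNoetherianRing A] [CommRing B]
    (α : A →+* B) (hα : α.FiniteType)
    [CommRing L] [IsLocalRing L] [IsNoetherianRing L] [Algebra A L] (p : Ideal A) [p.IsPrime]
    [IsLocalization.AtPrime L p]
    (σ₀ : B →+* AdicCompletion (maximalIdeal L) L)
    (hσ₀ : ∀ a, σ₀ (α a) = algebraMap L (AdicCompletion (maximalIdeal L) L) (algebraMap A L a))
    (N : ℕ) :
    ∃ (B' : Type u) (_ : CommRing B') (ι : B →+* B') (_ : ι.FiniteType)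
      (ψ : B' →+* AdicCompletion (maximalIdeal L) L),
      ψ.comp ι = σ₀ ∧
      ∀ ψ' : B' →+* AdicCompletion (maximalIdeal L) L,
        (∀ a, ψ' (ι (α a)) =
          algebraMap L (AdicCompletion (maximalIdeal L) L) (algebraMap A L a)) →
        ∀ b, σ₀ b - ψ' (ι b) ∈
          (maximalIdeal L ^ N).map (algebraMap L (AdicCompletion (maximalIdeal L) L)) := by
  classical
  letI algAB : Algebra A B := α.toAlgebra
  set Lh := AdicCompletion (maximalIdeal L) L with hLh
  set ιA : A →+* Lh := (algebraMap L Lh).comp (algebraMap A L) with hιA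
  set K : Ideal Lh := (maximalIdeal L ^ N).map (algebraMap L Lh) with hK
  -- generators of `p ^ N`
  obtain ⟨E, hE⟩ := (isNoetherianRing_iff_ideal_fg A).mp inferInstance (p ^ N)
  have hmN : maximalIdeal L ^ N = (p ^ N).map (algebraMap A L) := by
    rw [Ideal.map_pow, IsLocalization.AtPrime.map_eq_maximalIdeal p L]
  have hKspan : K = Ideal.span (Set.range fun e : E => ιA e) := by
    rw [hK, hmN, Ideal.map_map, ← hE, Ideal.map_span]
    congr 1
    ext z
    constructor
    · rintro ⟨e, he, rfl⟩
      exact ⟨⟨e, he⟩, rfl⟩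
    · rintro ⟨⟨e, he⟩, rfl⟩
      exact ⟨e, he, rfl⟩
  -- generators of `B`
  have hfg : (⊤ : Subalgebra A B).FG := hα.out
  obtain ⟨G, hG⟩ := hfg
  -- approximations of the images of the generators
  have hfrac : ∀ b : B, ∃ (a : A) (d : A), d ∉ p ∧ σ₀ (α d * b - α a) ∈ K := by
    intro b
    obtain ⟨c, hc⟩ := exists_sub_mem_map_pow N (σ₀ b)
    obtain ⟨a, ⟨d, hd⟩, rfl⟩ := IsLocalization.exists_mk'_eq p.primeCompl c
    refine ⟨a, d, hd, ?_⟩
    have h1 : σ₀ (α d * b - α a) =
        ιA d * (σ₀ b - algebraMap L Lh (IsLocalization.mk' L a (⟨d, hd⟩ : p.primeCompl))) := by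
      have h2 : algebraMap L Lh (algebraMap A L d) *
          algebraMap L Lh (IsLocalization.mk' L a (⟨d, hd⟩ : p.primeCompl)) =
          algebraMap L Lh (algebraMap A L a) := by
        rw [← map_mul, mul_comm]
        congr 1
        exact IsLocalization.mk'_spec L a (⟨d, hd⟩ : p.primeCompl)
      rw [map_sub, map_mul, hσ₀, hσ₀, mul_sub, hιA, RingHom.comp_apply, h2]
    rw [h1]
    exact K.mul_mem_left _ hc
  choose aa dd hdd hrel using hfrac
  have hcoef : ∀ b : B, ∃ c : E → Lh, ∑ e, c e * ιA e = σ₀ (α (dd b) * b - α (aa b)) := by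
    intro b
    have := hrel b
    rw [hKspan] at this
    exact (Ideal.mem_span_range_iff_exists_fun).mp this
  choose uu huu using hcoef
  -- the refinement
  let rel : G → MvPolynomial (G × E) B := fun b =>
    MvPolynomial.C (α (dd b) * b - α (aa b)) -
      ∑ e : E, MvPolynomial.C (α e) * MvPolynomial.X ((b, e) : G × E)
  let I : Ideal (MvPolynomial (G × E) B) := Ideal.span (Set.range rel)
  let ev : MvPolynomial (G × E) B →+* Lh := MvPolynomial.eval₂Hom σ₀ (fun x => uu x.1 x.2)
  have hev : ∀ z ∈ I, ev z = 0 := by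
    intro z hz
    have hle : I ≤ RingHom.ker ev := by
      rw [Ideal.span_le]
      rintro _ ⟨b, rfl⟩
      rw [SetLike.mem_coe, RingHom.mem_ker]
      have hC : ∀ x, ev (MvPolynomial.C x) = σ₀ x := fun x => by simp [ev]
      have hX : ∀ i : G × E, ev (MvPolynomial.X i) = uu i.1 i.2 := fun i => by simp [ev]
      have h1 : ev (rel b) = ev (MvPolynomial.C (α (dd b) * b - α (aa b))) -
          ∑ e : E, ev (MvPolynomial.C (α e)) * ev (MvPolynomial.X ((b, e) : G × E)) := by
        simp only [rel, map_sub, map_sum, map_mul]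
      rw [h1, hC, ← huu b, sub_eq_zero]
      refine Finset.sum_congr rfl fun e _ => ?_
      rw [hC, hX, hσ₀, mul_comm]
      rfl
    exact hle hz
  let ι : B →+* MvPolynomial (G × E) B ⧸ I := (Ideal.Quotient.mk I).comp MvPolynomial.C
  let ψ : MvPolynomial (G × E) B ⧸ I →+* Lh := Ideal.Quotient.lift I ev hev
  have hιft : ι.FiniteType := by
    refine RingHom.FiniteType.comp (RingHom.FiniteType.of_surjective _
      Ideal.Quotient.mk_surjective) ?_
    have : (algebraMap B (MvPolynomial (G × E) B)).FiniteType :=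
      RingHom.finiteType_algebraMap.mpr inferInstance
    rwa [MvPolynomial.algebraMap_eq] at this
  refine ⟨MvPolynomial (G × E) B ⧸ I, inferInstance, ι, hιft, ψ, ?_, ?_⟩
  · refine RingHom.ext fun b => ?_
    change Ideal.Quotient.lift I ev hev (Ideal.Quotient.mk I (MvPolynomial.C b)) = σ₀ b
    rw [Ideal.Quotient.lift_mk]
    simp [ev]
  · intro ψ' hψ' b
    -- relation in `B'`
    have hrel' : ∀ g : G, ψ' (ι (α (dd g) * g - α (aa g))) ∈ K := by
      intro g
      have h1 : ι (α (dd g) * g - α (aa g)) =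
          ∑ e : E, ι (α e) * Ideal.Quotient.mk I (MvPolynomial.X ((g, e) : G × E)) := by
        have h2 : Ideal.Quotient.mk I (rel g) = 0 :=
          Ideal.Quotient.eq_zero_iff_mem.mpr (Ideal.subset_span ⟨g, rfl⟩)
        have h3 : Ideal.Quotient.mk I (rel g) = ι (α (dd g) * g - α (aa g)) -
            ∑ e : E, ι (α e) * Ideal.Quotient.mk I (MvPolynomial.X ((g, e) : G × E)) := by
          simp only [rel, ι, map_sub, map_sum, map_mul, RingHom.comp_apply]
        rw [h3, sub_eq_zero] at h2
        exact h2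
      rw [h1, map_sum]
      refine K.sum_mem fun e _ => ?_
      rw [map_mul, hψ']
      refine K.mul_mem_right _ ?_
      rw [hK, hmN, Ideal.map_map]
      exact Ideal.mem_map_of_mem _ (by rw [← hE]; exact Ideal.subset_span e.2)
    have hunit : ∀ d : A, d ∉ p → IsUnit (ιA d) := by
      intro d hd
      exact (IsLocalization.map_units L (⟨d, hd⟩ : p.primeCompl)).map (algebraMap L Lh)
    have hgen : ∀ g ∈ (G : Set B), σ₀ g - (ψ'.comp ι) g ∈ K := by
      intro g hg
      have h3 : ιA (dd g) * (σ₀ g - (ψ'.comp ι) g) =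
          σ₀ (α (dd g) * g - α (aa g)) - ψ' (ι (α (dd g) * g - α (aa g))) := by
        simp only [map_sub, map_mul, hσ₀, hψ', RingHom.comp_apply, hιA]
        ring
      have h4 : ιA (dd g) * (σ₀ g - (ψ'.comp ι) g) ∈ K := by
        rw [h3]
        exact K.sub_mem (hrel g) (hrel' ⟨g, hg⟩)
      obtain ⟨v, hv⟩ := hunit (dd g) (hdd g)
      have h5 : σ₀ g - (ψ'.comp ι) g = ↑v⁻¹ * (ιA (dd g) * (σ₀ g - (ψ'.comp ι) g)) := by
        rw [← mul_assoc, ← hv, Units.inv_mul, one_mul]
      rw [h5]
      exact K.mul_mem_left _ h4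
    have := sub_mem_of_adjoin (A := A) σ₀ (ψ'.comp ι) K (G : Set B) hG
      (fun a => by
        change σ₀ (α a) - ψ' (ι (α a)) ∈ K
        rw [hσ₀, hψ', sub_self]
        exact K.zero_mem) hgen b
    exact this

end Groth.Agent.H78.Refine
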