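import Groth.Agent.H78.Refine.Ring
import Groth.Agent.H78.ArtinApx.SpecToAffine

/-!
# Finite type refinements controlling maps to a completed local ring (scheme form)

Stacks, Tag 0CAV (= S7201).
-/

set_option autoImplicit false
set_option linter.style.haveILetI false
universe u

namespace Groth.Agent.H78.Refine

open AlgebraicGeometry CategoryTheory IsLocalRing TopologicalSpace Opposite
open Groth.Agent.H78.ArtinApx

/-- elements of `𝔪 L̂` are not units -/
theorem not_isUnit_of_mem_map_maximalIdeal' {L : Type u} [CommRing L] [IsLocalRing L]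
    [IsNoetherianRing L] {y : AdicCompletion (maximalIdeal L) L}
    (hy : y ∈ (maximalIdeal L).map (algebraMap L (AdicCompletion (maximalIdeal L) L))) :
    ¬ IsUnit y := by
  rw [← AdicCompletion.maximalIdeal_eq_map] at hy
  exact hy

set_option maxHeartbeats 1600000 in
/-- **S7201.** -/
theorem exists_finiteType_refinement {T S : Scheme.{u}} [IsNoetherian T] [IsNoetherian S]
    (h : T ⟶ S) [LocallyOfFiniteType h] [QuasiCompact h] (t : T)
    (σ : ↑(T.presheaf.stalk t) →+* (AdicCompletion (IsLocalRing.maximalIdeal ↑(S.presheaf.stalk (h t))) ↑(S.presheaf.stalk (h t))))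
    (hσ : σ.comp (h.stalkMap t).hom = algebraMap ↑(S.presheaf.stalk (h t)) (AdicCompletion (IsLocalRing.maximalIdeal ↑(S.presheaf.stalk (h t))) ↑(S.presheaf.stalk (h t))))
    (hloc : ∀ a ∈ IsLocalRing.maximalIdeal ↑(T.presheaf.stalk t),
      σ a ∈ (IsLocalRing.maximalIdeal ↑(S.presheaf.stalk (h t))).map (algebraMap ↑(S.presheaf.stalk (h t)) (AdicCompletion (IsLocalRing.maximalIdeal ↑(S.presheaf.stalk (h t))) ↑(S.presheaf.stalk (h t)))))
    (N : ℕ) :
    ∃ (T' : Scheme.{u}) (g : T' ⟶ T) (t' : T') (hg : g t' = t) (τ : ↑(T'.presheaf.stalk t') →+* (AdicCompletion (IsLocalRing.maximalIdeal ↑(S.presheaf.stalk (h t))) ↑(S.presheaf.stalk (h t)))),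
      LocallyOfFiniteType g ∧ QuasiCompact g ∧
      τ.comp ((g.stalkMap t').hom.comp (T.presheaf.stalkCongr (Inseparable.of_eq hg)).inv.hom) = σ ∧
      ∀ (σ' : ↑(T.presheaf.stalk t) →+* (AdicCompletion (IsLocalRing.maximalIdeal ↑(S.presheaf.stalk (h t))) ↑(S.presheaf.stalk (h t)))),
        σ'.comp (h.stalkMap t).hom = algebraMap ↑(S.presheaf.stalk (h t)) (AdicCompletion (IsLocalRing.maximalIdeal ↑(S.presheaf.stalk (h t))) ↑(S.presheaf.stalk (h t))) →
        (∀ a ∈ IsLocalRing.maximalIdeal ↑(T.presheaf.stalk t),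
          σ' a ∈ (IsLocalRing.maximalIdeal ↑(S.presheaf.stalk (h t))).map (algebraMap ↑(S.presheaf.stalk (h t)) (AdicCompletion (IsLocalRing.maximalIdeal ↑(S.presheaf.stalk (h t))) ↑(S.presheaf.stalk (h t))))) →
        (∃ τ' : ↑(T'.presheaf.stalk t') →+* (AdicCompletion (IsLocalRing.maximalIdeal ↑(S.presheaf.stalk (h t))) ↑(S.presheaf.stalk (h t))),
          τ'.comp ((g.stalkMap t').hom.comp (T.presheaf.stalkCongr (Inseparable.of_eq hg)).inv.hom) = σ') →
        ∀ a : ↑(T.presheaf.stalk t), σ a - σ' a ∈ (IsLocalRing.maximalIdeal ↑(S.presheaf.stalk (h t)) ^ N).map (algebraMap ↑(S.presheaf.stalk (h t)) (AdicCompletion (IsLocalRing.maximalIdeal ↑(S.presheaf.stalk (h t))) ↑(S.presheaf.stalk (h t)))) := by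
  classical
  -- affine opens
  obtain ⟨_, ⟨V, hV, rfl⟩, hsV, -⟩ :=
    S.isBasis_affineOpens.exists_subset_of_mem_open (Set.mem_univ (h t)) isOpen_univ
  obtain ⟨_, ⟨U, hU, rfl⟩, htU, hUV⟩ :=
    T.isBasis_affineOpens.exists_subset_of_mem_open hsV (V.2.preimage h.continuous)
  replace hV : IsAffineOpen V := hV
  replace hU : IsAffineOpen U := hU
  haveI hNA : IsNoetherianRing Γ(S, V) := IsLocallyNoetherian.component_noetherian ⟨V, hV⟩
  let α : Γ(S, V) →+* Γ(T, U) := (h.appLE V U hUV).hom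
  have hαft : α.FiniteType := h.finiteType_appLE hV hU hUV
  letI algAL := S.presheaf.algebra_section_stalk (⟨h t, hsV⟩ : V)
  haveI hlocL := hV.isLocalization_stalk ⟨h t, hsV⟩
  letI algBOT := T.presheaf.algebra_section_stalk (⟨t, htU⟩ : U)
  haveI hlocOT := hU.isLocalization_stalk ⟨t, htU⟩
  set ps : Ideal Γ(S, V) := (hV.primeIdealOf ⟨h t, hsV⟩).asIdeal with hps
  set pt : Ideal Γ(T, U) := (hU.primeIdealOf ⟨t, htU⟩).asIdeal with hpt
  haveI hNL : IsNoetherianRing ↑(S.presheaf.stalk (h t)) :=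
    IsLocalization.isNoetherianRing ps.primeCompl _ hNA
  set Lh := AdicCompletion (maximalIdeal ↑(S.presheaf.stalk (h t))) ↑(S.presheaf.stalk (h t))
    with hLh
  set K : Ideal Lh := (maximalIdeal ↑(S.presheaf.stalk (h t)) ^ N).map (algebraMap _ Lh) with hK
  let gT : Γ(T, U) →+* ↑(T.presheaf.stalk t) := (T.presheaf.germ U t htU).hom
  have hgT : ∀ b, algebraMap Γ(T, U) ↑(T.presheaf.stalk t) b = gT b := fun b => rfl
  -- compatibility of stalk maps with sections
  have hstalk : ∀ a : Γ(S, V), (h.stalkMap t).hom (algebraMap Γ(S, V) ↑(S.presheaf.stalk (h t)) a) =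
      gT (α a) := by
    intro a
    change (h.stalkMap t).hom (S.presheaf.germ V (h t) hsV a) = _
    rw [Scheme.Hom.germ_stalkMap_apply]
    change _ = (T.presheaf.germ U t htU) ((h.app V ≫ T.presheaf.map (homOfLE hUV).op) a)
    rw [CommRingCat.comp_apply]
    exact (TopCat.Presheaf.germ_res_apply T.presheaf (homOfLE hUV) t htU _).symm
  let σ₀ : Γ(T, U) →+* Lh := σ.comp gT
  have hcompat : ∀ (σ' : ↑(T.presheaf.stalk t) →+* Lh),
      σ'.comp (h.stalkMap t).hom = algebraMap ↑(S.presheaf.stalk (h t)) Lh →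
      ∀ a, (σ'.comp gT) (α a) = algebraMap ↑(S.presheaf.stalk (h t)) Lh
        (algebraMap Γ(S, V) ↑(S.presheaf.stalk (h t)) a) := by
    intro σ' hσ' a
    have h1 := RingHom.congr_fun hσ' (algebraMap Γ(S, V) ↑(S.presheaf.stalk (h t)) a)
    rw [RingHom.comp_apply, hstalk] at h1
    exact h1
  have hσ₀ := hcompat σ hσ
  obtain ⟨B', _, ι, hιft, ψ, hψι, huniv⟩ :=
    exists_refinement_ring α hαft ps σ₀ hσ₀ N
  -- units and the maximal ideal
  have hunitσ : ∀ a : ↑(T.presheaf.stalk t), IsUnit (σ a) ↔ IsUnit a := by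
    intro a
    constructor
    · intro hu
      by_contra hnu
      have h4 : a ∈ maximalIdeal ↑(T.presheaf.stalk t) := hnu
      exact not_isUnit_of_mem_map_maximalIdeal' (hloc _ h4) hu
    · intro hu
      exact hu.map σ
  -- the point
  let q' : Ideal B' := (maximalIdeal Lh).comap ψ
  haveI hq' : q'.IsPrime := Ideal.comap_isPrime ψ _
  let T' : Scheme.{u} := Spec (CommRingCat.of B')
  let t' : T' := (⟨q', hq'⟩ : PrimeSpectrum B')
  let g : T' ⟶ T := specTo hU ι
  have hψι' : ∀ b, ψ (ι b) = σ (gT b) := fun b => RingHom.congr_fun hψι b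
  have hcomap : q'.comap ι = pt := by
    ext b₀
    rw [Ideal.mem_comap, Ideal.mem_comap, mem_maximalIdeal, mem_nonunits_iff, hψι', hunitσ,
      ← hgT, IsLocalization.AtPrime.isUnit_to_map_iff ↑(T.presheaf.stalk t) pt b₀]
    simp
  have hg : g t' = t := specTo_apply hU ι t' t htU hcomap
  -- finite type, quasi-compact
  have hft1 : LocallyOfFiniteType (Spec.map (CommRingCat.ofHom ι)) := by
    rw [HasRingHomProperty.Spec_iff (P := @LocallyOfFiniteType)]
    exact hιft
  haveI := hft1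
  haveI hftg : LocallyOfFiniteType g :=
    show LocallyOfFiniteType (Spec.map (CommRingCat.ofHom ι) ≫ hU.fromSpec) from inferInstance
  haveI hqcg : QuasiCompact g := inferInstance
  -- the lift to the stalk
  have hunitψ : ∀ r, r ∉ (t' : PrimeSpectrum B').asIdeal → IsUnit (ψ r) := by
    intro r hr
    by_contra hnu
    exact hr hnu
  obtain ⟨τ, hτ⟩ := exists_stalk_lift t' ψ hunitψ
  set εT : ↑(T.presheaf.stalk t) →+* ↑(T'.presheaf.stalk t') :=
    (g.stalkMap t').hom.comp (T.presheaf.stalkCongr (Inseparable.of_eq hg)).inv.hom with hεT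
  have hεTg : ∀ b₀ : Γ(T, U), εT (gT b₀) = T'.presheaf.germ ⊤ t' trivial
      ((Scheme.ΓSpecIso (CommRingCat.of B')).inv (ι b₀)) := fun b₀ =>
    specTo_stalkMap_germ hU ι t' t hg htU b₀
  refine ⟨T', g, t', hg, τ, hftg, hqcg, ?_, ?_⟩
  · apply IsLocalization.ringHom_ext pt.primeCompl
    refine RingHom.ext fun b₀ => ?_
    change τ (εT (algebraMap Γ(T, U) ↑(T.presheaf.stalk t) b₀)) =
      σ (algebraMap Γ(T, U) ↑(T.presheaf.stalk t) b₀)
    rw [hgT, hεTg, hτ, hψι']
  · rintro σ' hσ'1 - ⟨τ', hτ'⟩ a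
    let ψ' : B' →+* Lh := τ'.comp ((T'.presheaf.germ ⊤ t' trivial).hom.comp
      (Scheme.ΓSpecIso (CommRingCat.of B')).inv.hom)
    have hψ'ι : ∀ b₀, ψ' (ι b₀) = σ' (gT b₀) := by
      intro b₀
      have h1 := RingHom.congr_fun hτ' (gT b₀)
      rw [RingHom.comp_apply] at h1
      rw [← h1]
      change τ' (T'.presheaf.germ ⊤ t' trivial
        ((Scheme.ΓSpecIso (CommRingCat.of B')).inv (ι b₀))) = τ' (εT (gT b₀))
      rw [hεTg]
    have hsec : ∀ b₀ : Γ(T, U), σ (gT b₀) - σ' (gT b₀) ∈ K := by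
      intro b₀
      have := huniv ψ' (fun a₀ => by rw [hψ'ι]; exact hcompat σ' hσ'1 a₀) b₀
      rw [hψ'ι] at this
      exact this
    -- extend to the localization
    obtain ⟨⟨b₀, u₀⟩, hbu⟩ := IsLocalization.surj pt.primeCompl a
    have hbu' : a * gT u₀ = gT b₀ := hbu
    have hu₀ : IsUnit (gT (u₀ : Γ(T, U))) := by
      rw [← hgT]
      exact IsLocalization.map_units _ u₀
    have e1 : (σ a - σ' a) * σ (gT u₀) =
        (σ (gT b₀) - σ' (gT b₀)) - σ' a * (σ (gT u₀) - σ' (gT u₀)) := by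
      rw [← hbu', map_mul, map_mul]
      ring
    have e2 : (σ a - σ' a) * σ (gT u₀) ∈ K := by
      rw [e1]
      exact K.sub_mem (hsec b₀) (K.mul_mem_left _ (hsec u₀))
    obtain ⟨v, hv⟩ := hu₀.map σ
    have e3 : σ a - σ' a = (σ a - σ' a) * σ (gT u₀) * ↑v⁻¹ := by
      rw [mul_assoc, ← hv, Units.mul_inv, mul_one]
    rw [e3]
    exact K.mul_mem_right _ e2

end Groth.Agent.H78.Refine
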